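import Cfsg.Agent.Glaub.Inside
import Cfsg.Agent.H79.CopChar
import Cfsg.Agent.H79.ProdChar
import Cfsg.Agent.Char.Galois
import Cfsg.Agent.Char.AvgN
import Cfsg.Agent.Char.ExtThm
import Cfsg.Agent.S0867

/-!
# Glauberman correspondence for a cyclic operator group: values of the canonical extension
(owner: helper74)
-/

set_option autoImplicit false
set_option linter.unusedSectionVars false
set_option linter.style.haveILetI false

universe u v w

namespace Cfsg.Agent.Glaub

open scoped ComplexConjugate BigOperators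
open Cfsg Cfsg.Agent.CharBase Cfsg.Agent.Char

section DetMap

/-- the determinant of a Galois conjugate -/
theorem detChar_map {G : Type u} [Group G] [Finite G] (σ : ℂ ≃+* ℂ) {χ : G → ℂ}
    (hχ : IsIrrCharacter G χ) : detChar (fun g => σ (χ g)) = fun g => σ (detChar χ g) := by
  classical
  have hirr := isIrrCharacter_map σ hχ
  obtain ⟨n, ρ, hρ, rfl⟩ := hχ
  let F : G →* Matrix (Fin n) (Fin n) ℂ :=
    (LinearMap.toMatrixAlgEquiv' (R := ℂ) (n := Fin n)).toAlgHom.toRingHom.toMonoidHom.comp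
      (ρ : G →* ((Fin n → ℂ) →ₗ[ℂ] (Fin n → ℂ)))
  let F' : G →* Matrix (Fin n) (Fin n) ℂ := ((σ : ℂ →+* ℂ).mapMatrix).toMonoidHom.comp F
  let ρ' : Representation ℂ G (Fin n → ℂ) :=
    (Matrix.toLinAlgEquiv' (R := ℂ) (n := Fin n)).toAlgHom.toRingHom.toMonoidHom.comp F'
  have hρ' : ρ'.character = fun g => σ (ρ.character g) := by
    funext g
    have h1 : ρ'.character g = Matrix.trace (F' g) := by
      change LinearMap.trace ℂ _ (Matrix.toLinAlgEquiv' (F' g)) = _
      exact Matrix.trace_toLin'_eq _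
    have h2 : ρ.character g = Matrix.trace (F g) := by
      change LinearMap.trace ℂ _ (ρ g) = Matrix.trace (LinearMap.toMatrix' (ρ g))
      rw [LinearMap.trace_eq_matrix_trace ℂ (Pi.basisFun ℂ (Fin n))]
      rfl
    rw [h1, h2]
    have h3 : F' g = (F g).map σ := rfl
    rw [h3]
    exact (AddMonoidHom.map_trace (σ : ℂ →+* ℂ).toAddMonoidHom (F g)).symm
  have hirr' : IsIrrCharacter G ρ'.character := by rw [hρ']; exact hirr
  have e1 := detChar_eq ρ' hirr'
  have e2 := detChar_eq ρ ⟨n, ρ, hρ, rfl⟩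
  rw [← hρ', e1, e2]
  funext g
  rw [detHom_apply, detHom_apply]
  have d1 : LinearMap.det (ρ' g) = Matrix.det (F' g) := by
    change LinearMap.det (Matrix.toLin' (F' g)) = _
    exact LinearMap.det_toLin' _
  have d2 : LinearMap.det (ρ g) = Matrix.det (F g) := by
    change _ = Matrix.det (LinearMap.toMatrix' (ρ g))
    exact (LinearMap.det_toMatrix' _).symm
  rw [d1, d2]
  have h3 : F' g = (σ : ℂ →+* ℂ).mapMatrix (F g) := rfl
  rw [h3]
  exact (RingHom.map_det (σ : ℂ →+* ℂ) (F g)).symm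

theorem detOrder_map {G : Type u} [Group G] [Finite G] (σ : ℂ ≃+* ℂ) {χ : G → ℂ}
    (hχ : IsIrrCharacter G χ) : detOrder (fun g => σ (χ g)) = detOrder χ := by
  unfold detOrder
  rw [detChar_map σ hχ]
  apply orderOf_eq_orderOf_iff.mpr
  intro n
  constructor
  · intro h
    funext g
    have := congrFun h g
    rw [Pi.pow_apply, Pi.one_apply, ← map_pow] at this
    rw [Pi.pow_apply, Pi.one_apply]
    exact σ.injective (by rw [this, map_one])
  · intro h
    funext g
    have := congrFun h g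
    rw [Pi.pow_apply, Pi.one_apply] at this
    rw [Pi.pow_apply, Pi.one_apply, ← map_pow, this, map_one]

end DetMap

section Cyclic

variable {Γ : Type u} [Group Γ] [Fintype Γ] (G : Subgroup Γ) [hGn : G.Normal] [Fintype G]
  (S C : Subgroup Γ) [Fintype C]

/-- an extension with determinantal order prime to the index is fixed by the automorphisms of `ℂ`
fixing the `|G|`-th roots of unity -/
theorem aut_fix (hcop : (Nat.card G).Coprime G.index) (χh : IrrCharacter Γ)
    (hirr : IsIrrCharacter G (fun g : G => (χh : Γ → ℂ) g))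
    (hdet : (detOrder (χh : Γ → ℂ)).Coprime G.index) {k : ℕ} (hk : k ≡ 1 [MOD Nat.card G])
    (hk2 : k.Coprime (Nat.card Γ)) (x : Γ) : (χh : Γ → ℂ) (x ^ k) = (χh : Γ → ℂ) x := by
  classical
  obtain ⟨σ, hσ⟩ := exists_aut_pow Nat.card_pos.ne' hk2
  have hmap : ∀ x : Γ, σ ((χh : Γ → ℂ) x) = (χh : Γ → ℂ) (x ^ k) := fun x =>
    map_char_eq (irr_isCharacter χh) x (orderOf_dvd_natCard x) σ hσ
  have hpowG : ∀ g : G, (g : Γ) ^ k = g := fun g => by
    have h1 : (g ^ k : G) = g ^ (1 : ℕ) := by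
      rw [pow_eq_pow_iff_modEq]
      exact hk.of_dvd (orderOf_dvd_natCard g)
    rw [pow_one] at h1
    exact congrArg Subtype.val h1
  set θ : G → ℂ := fun g => (χh : Γ → ℂ) g with hθ
  have hinv : ∀ (x : Γ) (n : G), θ ⟨x * n * x⁻¹, hGn.conj_mem (n : Γ) n.2 x⟩ = θ n := fun x n =>
    irr_isClassFunction χh (n : Γ) x
  obtain ⟨d, hd⟩ := exists_nat_degree (isCharacter_of_isIrr hirr)
  have hcop2 : Nat.Coprime G.index (detOrder θ * d) := by
    apply Nat.Coprime.mul_right
    · exact (hcop.coprime_dvd_left (H79.detOrder_dvd_card (⟨θ, hirr⟩ : IrrCharacter G))).symm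
    · exact (hcop.coprime_dvd_left (degree_dvd_card hirr hd)).symm
  obtain ⟨χ0, -, huniq⟩ := S0867.result G θ hirr hinv d hd hcop2
  have e1 := huniq (χh : Γ → ℂ) χh.2 (fun n => rfl) hdet.symm
  have e2 := huniq (fun x => σ ((χh : Γ → ℂ) x)) (isIrrCharacter_map σ χh.2) (fun n => by
    rw [hmap, hpowG]) (by rw [detOrder_map σ χh.2]; exact hdet.symm)
  rw [← hmap]
  have := congrFun (e2.trans e1.symm) x
  exact this

theorem comm_C_S (hC : C = G ⊓ Subgroup.centralizer (S : Set Γ)) (c : C) (s : Γ) (hs : s ∈ S) :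
    (c : Γ) * s = s * c := by
  have h1 : (c : Γ) ∈ G ⊓ Subgroup.centralizer (S : Set Γ) := by rw [← hC]; exact c.2
  exact (Subgroup.mem_centralizer_iff.mp h1.2 s hs).symm

/-- the same value at all generators -/
theorem pow_gen (hcop : (Nat.card G).Coprime G.index) (hidx : G.index = Nat.card S)
    (hC : C = G ⊓ Subgroup.centralizer (S : Set Γ)) (hCG : C ≤ G)
    (χh : IrrCharacter Γ) (hirr : IsIrrCharacter G (fun g : G => (χh : Γ → ℂ) g))
    (hdet : (detOrder (χh : Γ → ℂ)).Coprime G.index) (c : C) (s : S) {j : ℕ}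
    (hj : j.Coprime (Nat.card S)) :
    (χh : Γ → ℂ) ((c : Γ) * (s : Γ) ^ j) = (χh : Γ → ℂ) ((c : Γ) * s) := by
  have hcop' : (Nat.card G).Coprime (Nat.card S) := hidx ▸ hcop
  obtain ⟨k, hk1, hk2⟩ := Nat.chineseRemainder hcop' 1 j
  have hcard : Nat.card Γ = Nat.card G * Nat.card S := by
    rw [← hidx]; exact (Subgroup.card_mul_index G).symm
  have hkG : k.Coprime (Nat.card G) := by
    have := hk1.gcd_eq
    rw [Nat.gcd_one_left] at this
    exact this
  have hkS : k.Coprime (Nat.card S) := by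
    have := hk2.gcd_eq
    unfold Nat.Coprime
    rw [this]; exact hj
  have hkΓ : k.Coprime (Nat.card Γ) := by rw [hcard]; exact hkG.mul_right hkS
  have h1 := aut_fix G hcop χh hirr hdet hk1 hkΓ ((c : Γ) * s)
  rw [← h1]
  have hcomm : Commute (c : Γ) (s : Γ) := comm_C_S G S C hC c s s.2
  rw [hcomm.mul_pow]
  have e1 : (c : Γ) ^ k = c := by
    have h2 : ((⟨c, hCG c.2⟩ : G) ^ k) = (⟨c, hCG c.2⟩ : G) ^ (1 : ℕ) := by
      rw [pow_eq_pow_iff_modEq]
      exact hk1.of_dvd (orderOf_dvd_natCard _)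
    rw [pow_one] at h2
    exact congrArg Subtype.val h2
  have e2 : (s : Γ) ^ k = (s : Γ) ^ j := by
    have h2 : s ^ k = s ^ j := by
      rw [pow_eq_pow_iff_modEq]
      exact hk2.of_dvd (orderOf_dvd_natCard _)
    exact congrArg Subtype.val h2
  rw [e1, e2]

/-- the multiplication homomorphism `C × S → Γ` -/
def mulCS (hC : C = G ⊓ Subgroup.centralizer (S : Set Γ)) : C × S →* Γ where
  toFun x := (x.1 : Γ) * x.2
  map_one' := by simp
  map_mul' x y := by
    have h := comm_C_S G S C hC y.1 x.2 x.2.2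
    simp only [Prod.fst_mul, Prod.snd_mul, Subgroup.coe_mul]
    calc (x.1 : Γ) * y.1 * (x.2 * y.2) = x.1 * (y.1 * x.2) * y.2 := by group
      _ = x.1 * (x.2 * y.1) * y.2 := by rw [h]
      _ = x.1 * x.2 * (y.1 * y.2) := by group

/-- the coefficient of `β` in `c ↦ χ(c t)` -/
noncomputable def gam (χh : Γ → ℂ) (β : C → ℂ) (t : S) : ℂ :=
  classInner (fun c : C => χh ((c : Γ) * t)) β

theorem gam_isCharacter [Fintype S] (hC : C = G ⊓ Subgroup.centralizer (S : Set Γ))
    (hScomm : ∀ a b : S, a * b = b * a) (χh : IrrCharacter Γ) (β : IrrCharacter C) :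
    IsCharacter S (gam S C (χh : Γ → ℂ) (β : C → ℂ)) := by
  classical
  refine isCharacter_of_classInner_nat (fun g h => by rw [hScomm h g, mul_inv_cancel_right])
    fun lam => ?_
  have h1 := classInner_natCast (isCharacter_comp (irr_isCharacter χh) (mulCS G S C hC))
    (irr_isCharacter (H79.irrProd β lam))
  obtain ⟨n, hn⟩ := h1
  refine ⟨n, ?_⟩
  rw [← hn]
  unfold gam classInner
  rw [Fintype.sum_prod_type_right, Nat.card_prod]
  push_cast
  rw [mul_inv, mul_comm (Nat.card C : ℂ)⁻¹, mul_assoc]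
  congr 1
  rw [Finset.mul_sum]
  refine Finset.sum_congr rfl fun t _ => ?_
  rw [mul_assoc, Finset.sum_mul]
  congr 1
  refine Finset.sum_congr rfl fun c _ => ?_
  change (χh : Γ → ℂ) (c * t) * conj ((β : C → ℂ) c) * conj ((lam : S → ℂ) t) =
    (χh : Γ → ℂ) (c * t) * conj ((β : C → ℂ) c * (lam : S → ℂ) t)
  rw [map_mul]
  ring

/-- **Values of the canonical extension.** -/
theorem exists_beta [Fintype S] (hcop : (Nat.card G).Coprime G.index) (hidx : G.index = Nat.card S)
    (hC : C = G ⊓ Subgroup.centralizer (S : Set Γ)) (hCG : C ≤ G) (s : S)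
    (hs : Subgroup.zpowers (s : Γ) = S)
    (χh : IrrCharacter Γ) (hirr : IsIrrCharacter G (fun g : G => (χh : Γ → ℂ) g))
    (hdet : (detOrder (χh : Γ → ℂ)).Coprime G.index) :
    ∃ (β : IrrCharacter C) (ε : ℤ), (ε = 1 ∨ ε = -1) ∧
      (∀ c : C, (χh : Γ → ℂ) ((c : Γ) * s) = (ε : ℂ) * (β : C → ℂ) c) := by
  classical
  haveI : Fintype (IrrCharacter C) := Fintype.ofFinite _
  have hScomm : ∀ a b : S, a * b = b * a := by
    intro a b
    have ha : (a : Γ) ∈ Subgroup.zpowers (s : Γ) := by rw [hs]; exact a.2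
    have hb : (b : Γ) ∈ Subgroup.zpowers (s : Γ) := by rw [hs]; exact b.2
    obtain ⟨m, hm⟩ := Subgroup.mem_zpowers_iff.mp ha
    obtain ⟨n, hn⟩ := Subgroup.mem_zpowers_iff.mp hb
    apply Subtype.ext
    rw [Subgroup.coe_mul, Subgroup.coe_mul, ← hm, ← hn, ← zpow_add, ← zpow_add, add_comm]
  -- integrality
  have hint : ∀ β : IrrCharacter C, ∃ m : ℤ, gam S C (χh : Γ → ℂ) (β : C → ℂ) s = m := by
    intro β
    have hγ := gam_isCharacter G S C hC hScomm χh β
    refine exists_int_of_fixed Nat.card_pos.ne' _ (char_mem_closure hγ s (dvd_refl _)) ?_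
    intro k σ hk hσ
    rw [map_char_eq hγ s (orderOf_dvd_natCard s) σ hσ]
    unfold gam
    congr 1
    funext c
    have := pow_gen G S C hcop hidx hC hCG χh hirr hdet c s hk
    rw [← this]
    rfl
  choose m hm using hint
  set F : C → ℂ := fun c => (χh : Γ → ℂ) ((c : Γ) * s) with hF
  have hFcf : IsClassFunction C F := by
    intro c h
    have h1 := irr_isClassFunction χh ((c : Γ) * s) (h : Γ)
    simp only [hF]
    rw [← h1]
    congr 1
    have h2 := comm_C_S G S C hC (h⁻¹ : C) s s.2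
    rw [Subgroup.coe_inv] at h2
    rw [Subgroup.coe_mul, Subgroup.coe_mul, Subgroup.coe_inv, mul_assoc, h2]
    group
  -- norm
  have hord : (orderOf (s : Γ)).Coprime (Nat.card G) := by
    rw [← Nat.card_zpowers, hs, ← hidx]
    exact hcop.symm
  have hCs : ∀ n ∈ G, (n ∈ C ↔ n * s = s * n) := by
    intro n hn
    constructor
    · intro h; exact comm_C_S G S C hC ⟨n, h⟩ s s.2
    · intro h
      rw [hC]
      refine ⟨hn, Subgroup.mem_centralizer_iff.mpr ?_⟩
      intro t ht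
      have ht' : t ∈ Subgroup.zpowers (s : Γ) := by rw [hs]; exact ht
      obtain ⟨j, rfl⟩ := Subgroup.mem_zpowers_iff.mp ht'
      have hc : Commute n (s : Γ) := h
      exact (hc.zpow_right j).symm
  have hnorm : classInner F F = 1 := by
    have h1 := H79.sum_coset_eq G C hCG (s : Γ) hord hCs
      (fun x => (χh : Γ → ℂ) x * (χh : Γ → ℂ) x⁻¹) (fun x g => by
        change (χh : Γ → ℂ) (g * x * g⁻¹) * (χh : Γ → ℂ) (g * x * g⁻¹)⁻¹ = _
        have e : (g * x * g⁻¹)⁻¹ = g * x⁻¹ * g⁻¹ := by group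
        rw [e, irr_isClassFunction χh, irr_isClassFunction χh])
    have h2 := H79.sum_coset_mul_inv G χh hirr (s : Γ)
    have hG0 : (Nat.card G : ℂ) ≠ 0 := Nat.cast_ne_zero.mpr Nat.card_pos.ne'
    have hC0 : (Nat.card C : ℂ) ≠ 0 := Nat.cast_ne_zero.mpr Nat.card_pos.ne'
    have h3 : (Nat.card C : ℂ) * (Nat.card G : ℂ) = (Nat.card G : ℂ) *
        ∑ c : C, (χh : Γ → ℂ) ((c : Γ) * s) * (χh : Γ → ℂ) ((c : Γ) * s)⁻¹ := by
      calc (Nat.card C : ℂ) * (Nat.card G : ℂ) = (Nat.card C : ℂ) *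
            ∑ n : G, (χh : Γ → ℂ) ((n : Γ) * s) * (χh : Γ → ℂ) ((n : Γ) * s)⁻¹ := by rw [h2]
        _ = _ := h1
    have h4 : ∑ c : C, (χh : Γ → ℂ) ((c : Γ) * s) * (χh : Γ → ℂ) ((c : Γ) * s)⁻¹ =
        (Nat.card C : ℂ) := by
      have : (Nat.card G : ℂ) * (∑ c : C, (χh : Γ → ℂ) ((c : Γ) * s) *
        (χh : Γ → ℂ) ((c : Γ) * s)⁻¹) = (Nat.card G : ℂ) * (Nat.card C : ℂ) := by
        rw [← h3]; ring
      exact mul_left_cancel₀ hG0 this
    unfold classInner
    have h5 : ∑ c : C, F c * conj (F c) = (Nat.card C : ℂ) := by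
      rw [← h4]
      refine Finset.sum_congr rfl fun c _ => ?_
      simp only [hF]
      rw [irr_inv]
    rw [h5, inv_mul_cancel₀ hC0]
  have hsum : ∑ β : IrrCharacter C, m β ^ 2 = 1 := by
    have h1 := classInner_eq_sum (f := F) (f' := F) hFcf
    rw [hnorm] at h1
    have h2 : ∀ β : IrrCharacter C, classInner F (β : C → ℂ) * classInner (β : C → ℂ) F =
        ((m β ^ 2 : ℤ) : ℂ) := by
      intro β
      have e1 : classInner F (β : C → ℂ) = m β := hm β
      have e2 : classInner (β : C → ℂ) F = m β := by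
        rw [← CharBase.classInner_conj_symm, e1, map_intCast]
      rw [e1, e2]; push_cast; ring
    simp only [h2] at h1
    exact_mod_cast h1.symm
  -- exactly one nonzero coefficient
  obtain ⟨β, hβ⟩ : ∃ β, m β ≠ 0 := by
    by_contra hcon
    push Not at hcon
    simp [hcon] at hsum
  have hsplit := Finset.add_sum_erase Finset.univ (fun β => m β ^ 2) (Finset.mem_univ β)
  rw [hsum] at hsplit
  have hnn : 0 ≤ ∑ β' ∈ Finset.univ.erase β, m β' ^ 2 := Finset.sum_nonneg fun _ _ => sq_nonneg _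
  have hpos : 0 < m β ^ 2 := by positivity
  have hsq : m β ^ 2 = 1 := by linarith
  have hrest : ∑ β' ∈ Finset.univ.erase β, m β' ^ 2 = 0 := by linarith
  have hz : ∀ β', β' ≠ β → m β' = 0 := by
    intro β' hne
    rw [Finset.sum_eq_zero_iff_of_nonneg (fun _ _ => sq_nonneg _)] at hrest
    exact pow_eq_zero_iff two_ne_zero |>.mp
      (hrest β' (Finset.mem_erase.mpr ⟨hne, Finset.mem_univ _⟩))
  refine ⟨β, m β, ?_, fun c => ?_⟩
  · have hfac : (m β - 1) * (m β + 1) = 0 := by linear_combination hsq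
    rcases mul_eq_zero.mp hfac with h | h
    · left; linarith
    · right; linarith
  · have h1 := classFun_apply_eq_sum hFcf c
    rw [Finset.sum_eq_single β] at h1
    · rw [show classInner F (β : C → ℂ) = m β from hm β] at h1
      exact h1
    · intro β' _ hne
      rw [show classInner F (β' : C → ℂ) = m β' from hm β', hz β' hne]
      simp
    · intro h; exact absurd (Finset.mem_univ _) h

/-- distinct characters give distinct `β` -/
theorem beta_inj [Fintype S] (hcop : (Nat.card G).Coprime G.index) (hidx : G.index = Nat.card S)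
    (hC : C = G ⊓ Subgroup.centralizer (S : Set Γ)) (hCG : C ≤ G) (s : S)
    (hs : Subgroup.zpowers (s : Γ) = S)
    (χh χh' : IrrCharacter Γ) (hirr : IsIrrCharacter G (fun g : G => (χh : Γ → ℂ) g))
    (hirr' : IsIrrCharacter G (fun g : G => (χh' : Γ → ℂ) g)) (β : IrrCharacter C) (ε ε' : ℤ)
    (hε : ε ≠ 0) (hε' : ε' ≠ 0)
    (h1 : ∀ c : C, (χh : Γ → ℂ) ((c : Γ) * s) = (ε : ℂ) * (β : C → ℂ) c)
    (h2 : ∀ c : C, (χh' : Γ → ℂ) ((c : Γ) * s) = (ε' : ℂ) * (β : C → ℂ) c) :
    (fun g : G => (χh : Γ → ℂ) g) = (fun g : G => (χh' : Γ → ℂ) g) := by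
  classical
  by_contra hne
  have h0 : classInner (fun n : G => (χh : Γ → ℂ) n) (fun n : G => (χh' : Γ → ℂ) n) = 0 :=
    classInner_irr_of_ne (χ := ⟨_, hirr⟩) (ψ := ⟨_, hirr'⟩) (fun h => hne (congrArg Subtype.val h))
  have h3 := (coset_average G (χh' : Γ → ℂ) χh'.2 hirr' (χh : Γ → ℂ) χh.2).2 h0
  have h4 := congrFun h3 (s : Γ)
  rw [avgN_apply] at h4
  have hG0 : (Nat.card G : ℂ) ≠ 0 := Nat.cast_ne_zero.mpr Nat.card_pos.ne'
  have hC0 : (Nat.card C : ℂ) ≠ 0 := Nat.cast_ne_zero.mpr Nat.card_pos.ne'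
  have h5 : ∑ n : G, ((χh : Γ → ℂ) * fun g => conj ((χh' : Γ → ℂ) g)) ((n : Γ) * s) = 0 := by
    rcases mul_eq_zero.mp h4 with h | h
    · exact absurd h (inv_ne_zero hG0)
    · exact h
  have hord : (orderOf (s : Γ)).Coprime (Nat.card G) := by
    rw [← Nat.card_zpowers, hs, ← hidx]
    exact hcop.symm
  have hCs : ∀ n ∈ G, (n ∈ C ↔ n * s = s * n) := by
    intro n hn
    constructor
    · intro h; exact comm_C_S G S C hC ⟨n, h⟩ s s.2
    · intro h
      rw [hC]
      refine ⟨hn, Subgroup.mem_centralizer_iff.mpr ?_⟩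
      intro t ht
      have ht' : t ∈ Subgroup.zpowers (s : Γ) := by rw [hs]; exact ht
      obtain ⟨j, rfl⟩ := Subgroup.mem_zpowers_iff.mp ht'
      have hc : Commute n (s : Γ) := h
      exact (hc.zpow_right j).symm
  have h6 := H79.sum_coset_eq G C hCG (s : Γ) hord hCs
      ((χh : Γ → ℂ) * fun g => conj ((χh' : Γ → ℂ) g)) (fun x g => by
        change (χh : Γ → ℂ) (g * x * g⁻¹) * conj ((χh' : Γ → ℂ) (g * x * g⁻¹)) = _
        rw [irr_isClassFunction χh, irr_isClassFunction χh']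
        rfl)
  rw [h5, mul_zero] at h6
  have h7 : ∑ c : C, ((χh : Γ → ℂ) * fun g => conj ((χh' : Γ → ℂ) g)) ((c : Γ) * s) =
      (ε : ℂ) * ε' * (Nat.card C : ℂ) := by
    have h8 := classInner_irr_self β
    unfold classInner at h8
    have h9 : ∑ c : C, (β : C → ℂ) c * conj ((β : C → ℂ) c) = Nat.card C := by
      rw [inv_mul_eq_iff_eq_mul₀ hC0, mul_one] at h8
      exact h8
    rw [← h9, Finset.mul_sum]
    refine Finset.sum_congr rfl fun c _ => ?_
    change (χh : Γ → ℂ) ((c : Γ) * s) * conj ((χh' : Γ → ℂ) ((c : Γ) * s)) = _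
    rw [h1, h2, map_mul, map_intCast]
    ring
  rw [h7] at h6
  have h8 : (Nat.card G : ℂ) * ((ε : ℂ) * ε' * (Nat.card C : ℂ)) ≠ 0 := by
    refine mul_ne_zero hG0 (mul_ne_zero (mul_ne_zero ?_ ?_) hC0)
    · exact_mod_cast hε
    · exact_mod_cast hε'
  exact h8 h6.symm

end Cyclic

end Cfsg.Agent.Glaub
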