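import Cfsg.Agent.Glaub.CosetSum
import Cfsg.Agent.H76.PInvariant
import Cfsg.Agent.H20.Residual
import Cfsg.Agent.S0867

/-!
# Characters over an extendible character; characters of `p'`-degree over `O^p(G)`
(owner: helper74)
-/

set_option autoImplicit false
set_option linter.unusedSectionVars false
set_option linter.style.haveILetI false

universe u v w

namespace Cfsg.Agent.Glaub

open scoped ComplexConjugate BigOperators
open Cfsg Cfsg.Agent.CharBase Cfsg.Agent.Char

/-- Gallagher in deflated form. -/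
theorem exists_irr_factor {H : Type u} [Group H] [Finite H] (M : Subgroup H) [hM : M.Normal]
    [Fintype M] {θh : H → ℂ} (hθh : IsIrrCharacter H θh)
    (hθ : IsIrrCharacter M (fun m : M => θh m)) {ξ : H → ℂ} (hξ : IsIrrCharacter H ξ)
    (h1 : classInner (fun x : M => ξ x) (fun m : M => θh m) ≠ 0) :
    ∃ β : H ⧸ M → ℂ, IsIrrCharacter (H ⧸ M) β ∧ ∀ h : H, ξ h = β (QuotientGroup.mk h) * θh h := by
  classical
  haveI := Fintype.ofFinite H
  have hinv : ∀ g : H, cj M g (fun m : M => θh m) = fun m : M => θh m := fun g =>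
    cj_restrict M g (isClassFunction_of_isCharacter (isCharacter_of_isIrr hθh))
  have hGal := gallagher_bijOn M (fun _ => 1) (fun m : M => θh m) Char.isIrrCharacter_one
    (fun g => rfl) hinv (by
      rw [show ((fun _ => 1) * (fun m : M => θh m)) = (fun m : M => θh m) from one_mul _]
      exact hθ) θh hθh (fun n => rfl)
  have hmem : ξ ∈ {ψ : H → ℂ | IsIrrCharacter H ψ ∧
      classInner (indFun M ((fun _ => 1) * (fun m : M => θh m))) ψ ≠ 0} := by
    refine ⟨hξ, ?_⟩
    rw [show ((fun _ => 1) * (fun m : M => θh m)) = (fun m : M => θh m) from one_mul _,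
      frobenius_reciprocity M _ _ (isClassFunction_of_isCharacter (isCharacter_of_isIrr hξ)),
      CharBase.classInner_comm_of_isCharacter (isCharacter_of_isIrr hθ)
        (isCharacter_restrict (isCharacter_of_isIrr hξ) M)]
    exact h1
  obtain ⟨β, ⟨hβ1, hβ2⟩, hβ3⟩ := hGal.surjOn hmem
  have hβ4 : classInner (fun n : M => β n) (fun _ => 1) ≠ 0 := by
    rw [frobenius_reciprocity M _ _ (isClassFunction_of_isCharacter (isCharacter_of_isIrr hβ1)),
      CharBase.classInner_comm_of_isCharacter (isCharacter_of_isIrr Char.isIrrCharacter_one)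
        (isCharacter_restrict (isCharacter_of_isIrr hβ1) M)] at hβ2
    exact hβ2
  have hβ5 : ∀ n ∈ M, β n = β 1 := fun n hn => by
    have := irr_const_of_classInner_ne_zero M hβ1 hβ4 ⟨n, hn⟩ 1
    rw [mul_one] at this
    exact this
  obtain ⟨β', hβ', hβ'2⟩ := H75.exists_deflate_irr M hβ1 hβ5
  refine ⟨β', hβ', fun h => ?_⟩
  have h8 : (β * θh) h = ξ h := congrFun hβ3 h
  rw [← h8, hβ'2]; rfl

section Residual

variable {G : Type u} [Group G] [Finite G] (p : ℕ) [hp : Fact p.Prime]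

/-- A homomorphism from `O^p(G)` to `ℂ` of `p`-power order is trivial. -/
theorem residual_hom_eq_one (f : pResidual p G →* ℂ) (h : ∀ x, f x ^ p = 1) (x : pResidual p G) :
    f x = 1 := by
  obtain ⟨x, hx⟩ := x
  have key : ∀ (x : G) (hx : x ∈ Subgroup.closure {g : G | Nat.Coprime (orderOf g) p}),
      f ⟨x, hx⟩ = 1 := by
    intro x hx
    induction hx using Subgroup.closure_induction with
    | mem y hy =>
      have hy' : Nat.Coprime (orderOf y) p := hy
      refine eq_one_of_pow_coprime hy' ?_ (h _)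
      rw [← map_pow]
      have : (⟨y, Subgroup.subset_closure hy⟩ : pResidual p G) ^ orderOf y = 1 := by
        apply Subtype.ext
        show y ^ orderOf y = 1
        exact pow_orderOf_eq_one y
      have h2 := congrArg f this
      rw [map_one] at h2
      exact h2
    | one => exact map_one f
    | mul a b ha hb iha ihb =>
      have : (⟨a * b, Subgroup.mul_mem _ ha hb⟩ : pResidual p G) = ⟨a, ha⟩ * ⟨b, hb⟩ := rfl
      have h2 := congrArg f this
      rw [map_mul, iha, ihb, mul_one] at h2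
      exact h2
    | inv a ha iha =>
      have : (⟨a⁻¹, Subgroup.inv_mem _ ha⟩ : pResidual p G) * ⟨a, ha⟩ = 1 :=
        Subtype.ext (inv_mul_cancel a)
      have h2 := congrArg f this
      rw [map_mul, iha, mul_one, map_one] at h2
      exact h2
  exact key x hx

theorem not_dvd_detOrder_residual {θ : pResidual p G → ℂ} (hθ : IsIrrCharacter (pResidual p G) θ) :
    ¬ p ∣ detOrder θ := by
  intro hdvd
  obtain ⟨m, hm⟩ := hdvd
  have hdet : ∃ μ : pResidual p G →* ℂ, detChar θ = μ := by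
    obtain ⟨n, ρ, hρ, rfl⟩ := hθ
    exact ⟨detHom ρ, detChar_eq ρ ⟨n, ρ, hρ, rfl⟩⟩
  obtain ⟨μ, hμ⟩ := hdet
  have hord : orderOf (μ : pResidual p G → ℂ) = p * m := by rw [← hμ]; exact hm
  have hpos : 0 < p * m := by
    rw [← hord]
    apply orderOf_pos_iff.mpr
    rw [isOfFinOrder_iff_pow_eq_one]
    refine ⟨Nat.card (pResidual p G), Nat.card_pos, ?_⟩
    rw [pow_fun_eq_one_iff]
    intro x
    rw [← map_pow, pow_card_eq_one', map_one]
  have hm0 : 0 < m := Nat.pos_of_ne_zero fun h => by rw [h, mul_zero] at hpos; exact lt_irrefl _ hpos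
  have h1 : (μ : pResidual p G → ℂ) ^ m = 1 := by
    rw [pow_fun_eq_one_iff]
    intro x
    let f : pResidual p G →* ℂ := (powMonoidHom m).comp μ
    have hf : ∀ x, f x ^ p = 1 := by
      intro x
      show (μ x ^ m) ^ p = 1
      rw [← pow_mul, mul_comm]
      have := pow_orderOf_eq_one (μ : pResidual p G → ℂ)
      rw [hord] at this
      exact congrFun this x
    exact residual_hom_eq_one p f hf x
  have h2 := orderOf_dvd_of_pow_eq_one h1
  rw [hord] at h2
  have h3 := Nat.le_of_dvd hm0 h2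
  have h4 := hp.out.two_le
  nlinarith

/-- The index of `O^p(G)` is a power of `p`. -/
theorem index_residual [(pResidual p G).Normal] : ∃ k, (pResidual p G).index = p ^ k :=
  IsPGroup.iff_card.mp (H20.quotient_pResidual_isPGroup (pResidual p G) le_rfl)

open Classical in
/-- The order of `O^p(G)` and the characters of `p'`-degree and `p'`-determinantal order. -/
theorem residual_congr [Fintype (IrrCharacter G)] :
    ((Nat.card (pResidual p G) : ℕ) : ZMod p) =
      ∑ χ ∈ Finset.univ.filter (fun χ : IrrCharacter G => ¬ p ∣ charDegree (χ : G → ℂ) ∧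
        ¬ p ∣ detOrder (χ : G → ℂ)), ((charDegree (χ : G → ℂ) : ℕ) : ZMod p) ^ 2 := by
  haveI hNn : (pResidual p G).Normal := H20.pResidual_normal p
  set N := pResidual p G with hN
  obtain ⟨k, hk⟩ : ∃ k, N.index = p ^ k := index_residual p
  haveI : Fintype G := Fintype.ofFinite G
  haveI : Fintype N := Fintype.ofFinite N
  haveI : Fintype (IrrCharacter N) := Fintype.ofFinite _
  obtain ⟨S⟩ := (inferInstance : Nonempty (Sylow p G))
  have hNS : N ⊔ (S : Subgroup G) = ⊤ := by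
    rw [← Subgroup.index_eq_one]
    have h1 : (N ⊔ (S : Subgroup G)).index ∣ p ^ k := hk ▸ Subgroup.index_dvd_of_le le_sup_left
    have h2 : (N ⊔ (S : Subgroup G)).index ∣ (S : Subgroup G).index :=
      Subgroup.index_dvd_of_le le_sup_right
    have h3 : ¬ p ∣ (S : Subgroup G).index := S.not_dvd_index
    obtain ⟨j, -, hj⟩ := (Nat.dvd_prime_pow hp.out).mp h1
    rw [hj] at h2 ⊢
    rcases Nat.eq_zero_or_pos j with h | h
    · rw [h, pow_zero]
    · exact absurd ((dvd_pow_self p h.ne').trans h2) h3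
  have hinvS : ∀ θ : IrrCharacter N, (∀ s ∈ (S : Subgroup G), cj N s (θ : N → ℂ) = θ) ↔
      ∀ g : G, cj N g (θ : N → ℂ) = θ := fun θ =>
    (cj_invariant_iff N (S : Subgroup G) hNS (irr_isClassFunction θ)).symm
  have h1 : ((Nat.card N : ℕ) : ZMod p) = ∑ θ : IrrCharacter N, ((H75.deg θ : ℕ) : ZMod p) ^ 2 := by
    rw [← H75.sum_deg_sq]
    push_cast
    rfl
  have h2 := H76.sum_eq_sum_fixed (R := ZMod p) S.isPGroup' ((H76.irrPerm N).comp
    (S : Subgroup G).subtype)
    (fun θ : IrrCharacter N => ((H75.deg θ : ℕ) : ZMod p) ^ 2) (by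
      intro s ψ
      have e4 : (((H76.irrPerm N).comp (S : Subgroup G).subtype s ψ : IrrCharacter N) : N → ℂ) 1 =
          (ψ : N → ℂ) 1 := by
        change cj N (s : G)⁻¹ (ψ : N → ℂ) 1 = _
        rw [cj_one_apply]
      rw [H75.deg_spec, H75.deg_spec] at e4
      have e5 : H75.deg ((H76.irrPerm N).comp (S : Subgroup G).subtype s ψ) = H75.deg ψ := by
        exact_mod_cast e4
      show ((H75.deg ((H76.irrPerm N).comp (S : Subgroup G).subtype s ψ) : ℕ) : ZMod p) ^ 2 = _
      rw [e5]) (fun θ => ∀ s ∈ (S : Subgroup G), cj N s (θ : N → ℂ) = θ)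
    (fun θ => (H76.fixed_irrPerm_iff N S θ).symm)
  have h3 : ((Nat.card N : ℕ) : ZMod p) =
      ∑ θ ∈ Finset.univ.filter (fun θ : IrrCharacter N => (∀ g : G, cj N g (θ : N → ℂ) = θ) ∧
        ¬ p ∣ charDegree (θ : N → ℂ)), ((charDegree (θ : N → ℂ) : ℕ) : ZMod p) ^ 2 := by
    rw [h1, h2, Finset.sum_filter]
    refine Finset.sum_congr rfl fun θ _ => ?_
    rw [H75.charDegree_eq_deg]
    by_cases h4 : ∀ g : G, cj N g (θ : N → ℂ) = θ
    · rw [if_pos ((hinvS θ).mpr h4)]
      by_cases h5 : p ∣ H75.deg θ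
      · rw [if_neg (fun h => h.2 h5), (ZMod.natCast_eq_zero_iff _ _).mpr h5]
        norm_num
      · rw [if_pos ⟨h4, h5⟩]
    · rw [if_neg (fun h => h4 ((hinvS θ).mp h)), if_neg (fun h => h4 h.1)]
  rw [h3]
  symm
  -- the canonical extension
  have hcan : ∀ θ : IrrCharacter N, (∀ g : G, cj N g (θ : N → ℂ) = θ) →
      ¬ p ∣ charDegree (θ : N → ℂ) →
      ∃ χ : G → ℂ, (IsIrrCharacter G χ ∧ (∀ n : N, χ n = (θ : N → ℂ) n) ∧
        detOrder χ = detOrder (θ : N → ℂ)) ∧
        ∀ χ' : G → ℂ, IsIrrCharacter G χ' → (∀ n : N, χ' n = (θ : N → ℂ) n) →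
          Nat.Coprime N.index (detOrder χ') → χ' = χ := by
    intro θ hθ hd
    refine S0867.result N (θ : N → ℂ) θ.2 (fun g n => congrFun (hθ g) n) (charDegree (θ : N → ℂ))
      (by rw [H75.charDegree_eq_deg]; exact H75.deg_spec θ) ?_
    rw [hk]
    apply Nat.Coprime.pow_left
    rw [Nat.Prime.coprime_iff_not_dvd hp.out, Nat.Prime.dvd_mul hp.out]
    push Not
    exact ⟨not_dvd_detOrder_residual p θ.2, hd⟩
  have hres : ∀ χ : IrrCharacter G, ¬ p ∣ charDegree (χ : G → ℂ) →
      ∃ θ : IrrCharacter N, (∀ n : N, (χ : G → ℂ) n = (θ : N → ℂ) n) ∧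
        (∀ g : G, cj N g (θ : N → ℂ) = θ) ∧ charDegree (θ : N → ℂ) = charDegree (χ : G → ℂ) := by
    intro χ hχ
    obtain ⟨θ, hθ, hne, hinv⟩ := invariant_of_coprime_degree N χ (by
      rw [hk]
      exact (Nat.Coprime.pow_left _ ((Nat.Prime.coprime_iff_not_dvd hp.out).mpr hχ)).symm)
    have hne' : classInner (fun n : N => (χ : G → ℂ) n) θ ≠ 0 := by convert hne
    have hd := clifford_degree N χ.2 hθ hne'
    obtain ⟨m, hm⟩ := classInner_natCast (isCharacter_restrict (irr_isCharacter χ) N)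
      (isCharacter_of_isIrr hθ)
    have hdθ : ¬ p ∣ charDegree θ := by
      have e0 : charDegree θ = H75.deg (⟨θ, hθ⟩ : IrrCharacter N) :=
        H75.charDegree_eq_deg (⟨θ, hθ⟩ : IrrCharacter N)
      rw [e0]
      rw [H75.charDegree_eq_deg] at hχ
      intro h
      apply hχ
      have e1 : θ 1 = H75.deg (⟨θ, hθ⟩ : IrrCharacter N) := H75.deg_spec ⟨θ, hθ⟩
      have e2 := H75.deg_spec χ
      rw [hm, e1, e2] at hd
      have e3 : H75.deg χ = m * ((inertia N θ).index * H75.deg (⟨θ, hθ⟩ : IrrCharacter N)) := by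
        exact_mod_cast hd
      rw [e3]
      exact (h.mul_left _).mul_left _
    obtain ⟨χ', ⟨h1, h2, -⟩, -⟩ := hcan ⟨θ, hθ⟩ hinv hdθ
    have h2' : (fun n : N => χ' n) = θ := funext h2
    obtain ⟨β, hβ, hβ2⟩ := exists_irr_factor N h1 (by rw [h2']; exact hθ) χ.2 (by
      rw [h2']; exact hne')
    have hβd : H75.deg (⟨β, hβ⟩ : IrrCharacter (G ⧸ N)) = 1 := by
      have e1 : H75.deg (⟨β, hβ⟩ : IrrCharacter (G ⧸ N)) ∣ p ^ k := by
        have := H75.deg_dvd (⟨β, hβ⟩ : IrrCharacter (G ⧸ N))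
        rwa [show Nat.card (G ⧸ N) = p ^ k from hk] at this
      obtain ⟨j, -, hj⟩ := (Nat.dvd_prime_pow hp.out).mp e1
      rcases Nat.eq_zero_or_pos j with h | h
      · rw [hj, h, pow_zero]
      · exfalso
        apply hχ
        have e2 := hβ2 1
        have e3 : β (QuotientGroup.mk 1) = H75.deg (⟨β, hβ⟩ : IrrCharacter (G ⧸ N)) :=
          H75.deg_spec (⟨β, hβ⟩ : IrrCharacter (G ⧸ N))
        have e4 : χ' 1 = H75.deg (⟨χ', h1⟩ : IrrCharacter G) :=
          H75.deg_spec (⟨χ', h1⟩ : IrrCharacter G)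
        rw [e3, e4, H75.deg_spec χ] at e2
        rw [H75.charDegree_eq_deg]
        have e5 : H75.deg χ = H75.deg (⟨β, hβ⟩ : IrrCharacter (G ⧸ N)) *
          H75.deg (⟨χ', h1⟩ : IrrCharacter G) := by exact_mod_cast e2
        rw [e5, hj]
        exact (dvd_pow_self p h.ne').mul_right _
    have hβ1 : β 1 = 1 := by
      have := H75.deg_spec (⟨β, hβ⟩ : IrrCharacter (G ⧸ N))
      rw [hβd, Nat.cast_one] at this
      exact this
    have hχθ : ∀ n : N, (χ : G → ℂ) n = θ n := by
      intro n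
      rw [hβ2, (QuotientGroup.eq_one_iff (n : G)).mpr n.2, hβ1, one_mul]
      exact h2 n
    refine ⟨⟨θ, hθ⟩, hχθ, hinv, ?_⟩
    have e1 : charDegree θ = H75.deg (⟨θ, hθ⟩ : IrrCharacter N) :=
      H75.charDegree_eq_deg (⟨θ, hθ⟩ : IrrCharacter N)
    show charDegree θ = _
    rw [e1, H75.charDegree_eq_deg]
    have e2 := hχθ 1
    have e3 : θ 1 = H75.deg (⟨θ, hθ⟩ : IrrCharacter N) := H75.deg_spec ⟨θ, hθ⟩
    rw [OneMemClass.coe_one, H75.deg_spec χ, e3] at e2
    exact_mod_cast e2.symm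
  haveI : Nonempty (IrrCharacter N) := ⟨⟨_, Char.isIrrCharacter_one⟩⟩
  choose! R hR1 hR2 hR3 using hres
  refine Finset.sum_nbij R ?_ ?_ ?_ ?_
  · intro χ hχ
    simp only [Finset.mem_filter, Finset.mem_univ, true_and] at hχ ⊢
    exact ⟨hR2 χ hχ.1, by rw [hR3 χ hχ.1]; exact hχ.1⟩
  · intro χ hχ χ' hχ' he
    simp only [Finset.coe_filter, Finset.mem_univ, true_and, Set.mem_ofPred_eq] at hχ hχ'
    obtain ⟨χ0, -, huniq⟩ := hcan (R χ) (hR2 χ hχ.1) (by rw [hR3 χ hχ.1]; exact hχ.1)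
    have hc : ∀ {o : ℕ}, ¬ p ∣ o → Nat.Coprime N.index o := fun ho => by
      rw [hk]; exact Nat.Coprime.pow_left _ ((Nat.Prime.coprime_iff_not_dvd hp.out).mpr ho)
    have e1 := huniq χ χ.2 (hR1 χ hχ.1) (hc hχ.2)
    have e2 := huniq χ' χ'.2 (by rw [he]; exact hR1 χ' hχ'.1) (hc hχ'.2)
    exact Subtype.ext (e1.trans e2.symm)
  · intro θ hθ
    simp only [Finset.coe_filter, Finset.mem_univ, true_and, Set.mem_ofPred_eq] at hθ
    obtain ⟨χ, ⟨h1, h2, h3⟩, -⟩ := hcan θ hθ.1 hθ.2
    have hdeg : charDegree χ = charDegree (θ : N → ℂ) := by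
      unfold charDegree
      rw [show χ 1 = (θ : N → ℂ) 1 from h2 1]
    have hχ1 : ¬ p ∣ charDegree χ := by rw [hdeg]; exact hθ.2
    refine ⟨⟨χ, h1⟩, ?_, ?_⟩
    · simp only [Finset.coe_filter, Finset.mem_univ, true_and, Set.mem_ofPred_eq]
      refine ⟨hχ1, ?_⟩
      show ¬ p ∣ detOrder χ
      rw [h3]
      exact not_dvd_detOrder_residual p θ.2
    · apply Subtype.ext
      funext n
      rw [← hR1 ⟨χ, h1⟩ hχ1 n]
      exact h2 n
  · intro χ hχ
    simp only [Finset.mem_filter, Finset.mem_univ, true_and] at hχ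
    rw [hR3 χ hχ.1]

end Residual

end Cfsg.Agent.Glaub
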