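import Cfsg.Agent.Glaub.Inside
import Cfsg.Agent.Char.Clifford

/-!
# Coprime action of a solvable group: invariant characters above invariant characters
(owner: helper74)

* `mli_classInner_sub`: inner products of invariant functions are congruent to those of their
  restrictions to the fixed points.
* `exists_invariant_above`: if the solvable group `A` acts coprimely on `G` and `θ` is an
  `A`-invariant irreducible character of the `A`-invariant normal subgroup `N`, there is an
  `A`-invariant irreducible character of `G` above `θ`.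
-/

set_option autoImplicit false
set_option linter.unusedSectionVars false
set_option linter.style.haveILetI false

universe u v w

namespace Cfsg.Agent.Glaub

open scoped ComplexConjugate BigOperators
open Cfsg Cfsg.Agent.CharBase Cfsg.Agent.Blk

section Congr

variable {G : Type u} [Group G] [Fintype G] {C : Type w} [Group C] [Fintype C]
  {A : Type v} [Group A] [Finite A] {φ : A →* MulAut G} {ι : C →* G}

theorem mli_classInner_sub (h : IsFix φ ι) {p : ℕ} {M : Ideal AlgInt} (hM : IsPModular p M)
    (hA : IsPGroup p A) (hpG : ¬ p ∣ Nat.card G) {f g : G → ℂ} (hf : Inv φ f) (hg : Inv φ g)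
    (hfi : ∀ x, MemLocalRing M (f x)) (hgi : ∀ x, MemLocalRing M (conj (g x))) :
    MemLocalIdeal M (classInner f g - classInner (res ι f) (res ι g)) := by
  haveI := isPrime_of_isPModular hM
  have hC0 : (Nat.card C : ℂ) ≠ 0 := Nat.cast_ne_zero.mpr Nat.card_pos.ne'
  have hG0 : (Nat.card G : ℂ) ≠ 0 := Nat.cast_ne_zero.mpr Nat.card_pos.ne'
  have hpC : ¬ p ∣ Nat.card C := fun hd => hpG (hd.trans (card_C_dvd h))
  have h1 := mli_sum_sub_sum h hM hA (fun x => f x * conj (g x))
    (fun a x => by
      change f (φ a x) * conj (g (φ a x)) = _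
      rw [hf, hg])
    (fun x => mlr_mul (hfi x) (hgi x))
  have h4 := card_mod h hM hA
  have hl : MemLocalRing M (classInner f g) := by
    unfold classInner
    exact mlr_mul (mlr_natCast_inv hM hpG) (mlr_sum _ _ fun x _ => mlr_mul (hfi x) (hgi x))
  have e1 : ∑ x : G, f x * conj (g x) = (Nat.card G : ℂ) * classInner f g := by
    rw [classInner, mul_inv_cancel_left₀ hG0]
  have e2 : ∑ c : C, f (ι c) * conj (g (ι c)) = (Nat.card C : ℂ) * classInner (res ι f) (res ι g) := by
    rw [classInner, mul_inv_cancel_left₀ hC0]; rfl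
  rw [e1, e2] at h1
  have h5 : MemLocalIdeal M ((Nat.card C : ℂ) *
      (classInner f g - classInner (res ι f) (res ι g))) := by
    have : (Nat.card C : ℂ) * (classInner f g - classInner (res ι f) (res ι g)) =
      ((Nat.card G : ℂ) * classInner f g - (Nat.card C : ℂ) * classInner (res ι f) (res ι g))
      - ((Nat.card G : ℂ) - (Nat.card C : ℂ)) * classInner f g := by ring
    rw [this, sub_eq_add_neg]
    exact mli_add h1 (mli_neg (mli_mul_right h4 hl))
  have h6 : MemLocalIdeal M ((Nat.card C : ℂ)⁻¹ * ((Nat.card C : ℂ) *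
      (classInner f g - classInner (res ι f) (res ι g)))) :=
    mli_mul_left (mlr_natCast_inv hM hpC) h5
  rwa [inv_mul_cancel_left₀ hC0] at h6

end Congr

section Restr

variable {G : Type u} [Group G] {A : Type v} [Group A]

/-- the action on an invariant subgroup -/
def restrAct (φ : A →* MulAut G) (N : Subgroup G) (hN : ∀ a, ∀ n ∈ N, φ a n ∈ N) :
    A →* MulAut N where
  toFun a :=
    { toFun := fun n => ⟨φ a n, hN a n n.2⟩
      invFun := fun n => ⟨φ a⁻¹ n, hN a⁻¹ n n.2⟩
      left_inv := fun n => by
        apply Subtype.ext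
        change φ a⁻¹ (φ a (n : G)) = n
        rw [← MulAut.mul_apply, ← map_mul, inv_mul_cancel, map_one, MulAut.one_apply]
      right_inv := fun n => by
        apply Subtype.ext
        change φ a (φ a⁻¹ (n : G)) = n
        rw [← MulAut.mul_apply, ← map_mul, mul_inv_cancel, map_one, MulAut.one_apply]
      map_mul' := fun n n' => by
        apply Subtype.ext
        change φ a ((n : G) * n') = φ a n * φ a n'
        rw [map_mul] }
  map_one' := by
    ext d
    change φ 1 (d : G) = d
    rw [map_one, MulAut.one_apply]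
  map_mul' a b := by
    ext d
    change φ (a * b) (d : G) = φ a (φ b (d : G))
    rw [map_mul, MulAut.mul_apply]

theorem restrAct_apply (φ : A →* MulAut G) (N : Subgroup G) (hN : ∀ a, ∀ n ∈ N, φ a n ∈ N)
    (a : A) (n : N) : ((restrAct φ N hN a n : N) : G) = φ a n := rfl

/-- the fixed points inside an invariant subgroup -/
theorem isFix_restrAct (φ : A →* MulAut G) (N : Subgroup G) (hN : ∀ a, ∀ n ∈ N, φ a n ∈ N)
    (ι : N.subgroupOf (fixSub φ) →* N)
    (hι : ∀ x, ((ι x : N) : G) = ((x : fixSub φ) : G)) : IsFix (restrAct φ N hN) ι := by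
  refine ⟨fun x y hxy => ?_, fun n => ?_⟩
  · apply Subtype.ext; apply Subtype.ext
    rw [← hι x, ← hι y, hxy]
  · constructor
    · intro h
      have h1 : (n : G) ∈ fixSub φ := fun a => congrArg Subtype.val (h a)
      refine ⟨⟨⟨n, h1⟩, n.2⟩, Subtype.ext ?_⟩
      rw [hι]
    · rintro ⟨x, rfl⟩ a
      apply Subtype.ext
      rw [restrAct_apply, hι]
      exact x.1.2 a

/-- the inclusion of the fixed points of `N` in `N` -/
def fixIncl (φ : A →* MulAut G) (N : Subgroup G) : N.subgroupOf (fixSub φ) →* N where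
  toFun x := ⟨((x : fixSub φ) : G), x.2⟩
  map_one' := rfl
  map_mul' _ _ := rfl

end Restr

section Above

variable {G : Type u} [Group G] [Fintype G] {A : Type v} [Group A] [Finite A]
  (φ : A →* MulAut G) (N : Subgroup G) [Fintype N]

/-- The congruence `[χ_N, θ] ≡ m n [ψ_{N ∩ D}, θ*] (mod p)`. -/
theorem mult_congr_above (hN : ∀ a, ∀ n ∈ N, φ a n ∈ N) {p : ℕ} (hp : p.Prime)
    (hA : IsPGroup p A) (hpG : ¬ p ∣ Nat.card G)
    [Fintype (fixSub φ)] [Fintype (N.subgroupOf (fixSub φ))]
    (χ : IrrCharacter G) (hχ : Inv φ (χ : G → ℂ))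
    (θ : IrrCharacter N) (hθ : Inv (restrAct φ N hN) (θ : N → ℂ))
    (ψ : IrrCharacter (fixSub φ)) (η : IrrCharacter (N.subgroupOf (fixSub φ))) (m n e e' : ℕ)
    (hm : classInner (res (fixSub φ).subtype (χ : G → ℂ)) (ψ : fixSub φ → ℂ) = m)
    (hmo : ∀ (γ : IrrCharacter (fixSub φ)) (k : ℕ),
      classInner (res (fixSub φ).subtype (χ : G → ℂ)) (γ : fixSub φ → ℂ) = k → γ ≠ ψ → p ∣ k)
    (hn : classInner (res (fixIncl φ N) (θ : N → ℂ)) (η : N.subgroupOf (fixSub φ) → ℂ) = n)
    (hno : ∀ (γ : IrrCharacter (N.subgroupOf (fixSub φ))) (k : ℕ),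
      classInner (res (fixIncl φ N) (θ : N → ℂ)) (γ : N.subgroupOf (fixSub φ) → ℂ) = k →
        γ ≠ η → p ∣ k)
    (he : classInner (fun x : N => (χ : G → ℂ) x) (θ : N → ℂ) = e)
    (he' : classInner (fun x : N.subgroupOf (fixSub φ) => (ψ : fixSub φ → ℂ) x)
      (η : N.subgroupOf (fixSub φ) → ℂ) = e') :
    (p : ℤ) ∣ (e : ℤ) - m * n * e' := by
  classical
  obtain ⟨M, hM⟩ := exists_isPModular hp
  haveI := isPrime_of_isPModular hM
  haveI : Fintype (IrrCharacter (fixSub φ)) := Fintype.ofFinite _
  haveI : Fintype (IrrCharacter (N.subgroupOf (fixSub φ))) := Fintype.ofFinite _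
  have hpN : ¬ p ∣ Nat.card N := fun h => hpG (h.trans (Subgroup.card_subgroup_dvd_card N))
  have hfixN := isFix_restrAct φ N hN (fixIncl φ N) (fun _ => rfl)
  have h1 := mli_classInner_sub hfixN hM hA hpN (f := fun x : N => (χ : G → ℂ) x)
    (g := (θ : N → ℂ)) (fun a x => hχ a (x : G)) hθ
    (fun x => mlr_of_isIntegral (irr_isIntegral χ _))
    (fun x => by rw [← irr_inv]; exact mlr_of_isIntegral (irr_isIntegral θ _))
  rw [he] at h1
  -- expand
  obtain ⟨μ, hμ, hμs⟩ := exists_mult (irr_isCharacter χ) (fixSub φ).subtype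
  obtain ⟨ν, hν, hνs⟩ := exists_mult (irr_isCharacter θ) (fixIncl φ N)
  have hμψ : μ ψ = m := by
    have := (hμ ψ).symm.trans hm
    exact_mod_cast this
  have hνη : ν η = n := by
    have := (hν η).symm.trans hn
    exact_mod_cast this
  have hmult : ∀ (β : IrrCharacter (fixSub φ)) (γ : IrrCharacter (N.subgroupOf (fixSub φ))), ∃ k : ℕ,
      classInner (fun x : N.subgroupOf (fixSub φ) => (β : fixSub φ → ℂ) x) (γ : N.subgroupOf (fixSub φ) → ℂ) = k := fun β γ =>
    classInner_natCast (isCharacter_restrict (irr_isCharacter β) _) (irr_isCharacter γ)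
  choose E hE using hmult
  have hEψη : E ψ η = e' := by
    have := (hE ψ η).symm.trans he'
    exact_mod_cast this
  have h2 : classInner (res (fixIncl φ N) (fun x : N => (χ : G → ℂ) x))
      (res (fixIncl φ N) (θ : N → ℂ)) = ((∑ β : IrrCharacter (fixSub φ), ∑ γ : IrrCharacter (N.subgroupOf (fixSub φ)),
        μ β * ν γ * E β γ : ℕ) : ℂ) := by
    have e1 : res (fixIncl φ N) (fun x : N => (χ : G → ℂ) x) =
        ∑ β : IrrCharacter (fixSub φ), (μ β : ℂ) • (fun x : N.subgroupOf (fixSub φ) => (β : fixSub φ → ℂ) x) := by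
      funext x
      have := congrFun hμs (x : fixSub φ)
      simp only [res, Finset.sum_apply, Pi.smul_apply, nsmul_eq_mul, smul_eq_mul] at this ⊢
      exact this
    have e2 : res (fixIncl φ N) (θ : N → ℂ) =
        ∑ γ : IrrCharacter (N.subgroupOf (fixSub φ)), (ν γ : ℂ) • (γ : N.subgroupOf (fixSub φ) → ℂ) := by
      rw [hνs]
      refine Finset.sum_congr rfl fun γ _ => ?_
      funext x
      simp only [Pi.smul_apply, nsmul_eq_mul, smul_eq_mul]
    rw [e1, e2, classInner_sum_left]
    push_cast
    refine Finset.sum_congr rfl fun β _ => ?_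
    rw [classInner_sum_right]
    refine Finset.sum_congr rfl fun γ _ => ?_
    rw [classInner_smul_left, classInner_smul_right, hE, map_natCast]
    ring
  rw [h2] at h1
  have h3 : (p : ℤ) ∣ (e : ℤ) - (∑ β : IrrCharacter (fixSub φ), ∑ γ : IrrCharacter (N.subgroupOf (fixSub φ)),
        μ β * ν γ * E β γ : ℕ) := by
    have : ((e : ℂ) - ((∑ β : IrrCharacter (fixSub φ), ∑ γ : IrrCharacter (N.subgroupOf (fixSub φ)),
        μ β * ν γ * E β γ : ℕ) : ℂ)) = (((e : ℤ) - (∑ β : IrrCharacter (fixSub φ),
          ∑ γ : IrrCharacter (N.subgroupOf (fixSub φ)), μ β * ν γ * E β γ : ℕ) : ℤ) : ℂ) := by push_cast; ring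
    rw [this] at h1
    exact (mli_intCast_iff hM _).mp h1
  have h4 : p ∣ ∑ β : IrrCharacter (fixSub φ), ∑ γ : IrrCharacter (N.subgroupOf (fixSub φ)),
        (if β = ψ ∧ γ = η then 0 else μ β * ν γ * E β γ) := by
    refine Finset.dvd_sum fun β _ => Finset.dvd_sum fun γ _ => ?_
    by_cases hβ : β = ψ
    · by_cases hγ : γ = η
      · rw [if_pos ⟨hβ, hγ⟩]; exact dvd_zero p
      · rw [if_neg (fun h => hγ h.2)]
        exact ((hno γ (ν γ) (hν γ) hγ).mul_left (μ β)).mul_right _
    · rw [if_neg (fun h => hβ h.1)]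
      exact ((hmo β (μ β) (hμ β) hβ).mul_right (ν γ)).mul_right _
  have h5 : (∑ β : IrrCharacter (fixSub φ), ∑ γ : IrrCharacter (N.subgroupOf (fixSub φ)), μ β * ν γ * E β γ) =
      (∑ β : IrrCharacter (fixSub φ), ∑ γ : IrrCharacter (N.subgroupOf (fixSub φ)),
        (if β = ψ ∧ γ = η then 0 else μ β * ν γ * E β γ)) + m * n * e' := by
    have h6 : m * n * e' = ∑ β : IrrCharacter (fixSub φ), ∑ γ : IrrCharacter (N.subgroupOf (fixSub φ)),
        (if β = ψ ∧ γ = η then μ β * ν γ * E β γ else 0) := by
      rw [Finset.sum_eq_single ψ]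
      · rw [Finset.sum_eq_single η]
        · rw [if_pos ⟨rfl, rfl⟩, hμψ, hνη, hEψη]
        · intro γ _ hγ; rw [if_neg (fun h => hγ h.2)]
        · intro h; exact absurd (Finset.mem_univ _) h
      · intro β _ hβ
        exact Finset.sum_eq_zero fun γ _ => if_neg (fun h => hβ h.1)
      · intro h; exact absurd (Finset.mem_univ _) h
    rw [h6, ← Finset.sum_add_distrib]
    refine Finset.sum_congr rfl fun β _ => ?_
    rw [← Finset.sum_add_distrib]
    refine Finset.sum_congr rfl fun γ _ => ?_
    split_ifs <;> simp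
  rw [h5] at h3
  push_cast at h3
  obtain ⟨c, hc⟩ := h3
  have h4' : (p : ℤ) ∣ ((∑ β : IrrCharacter (fixSub φ), ∑ γ : IrrCharacter (N.subgroupOf (fixSub φ)),
        (if β = ψ ∧ γ = η then 0 else μ β * ν γ * E β γ) : ℕ) : ℤ) := by exact_mod_cast h4
  obtain ⟨c', hc'⟩ := h4'
  refine ⟨c + c', ?_⟩
  push_cast at hc'
  linarith

end Above

section Clif

/-- Multiplicities in restrictions to normal subgroups divide the group order. -/
theorem mult_dvd_card {D : Type u} [Group D] [Fintype D] (M : Subgroup D) [M.Normal] [Fintype M]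
    (ψ : IrrCharacter D) (η : IrrCharacter M) (e : ℕ)
    (he : classInner (fun x : M => (ψ : D → ℂ) x) (η : M → ℂ) = e) (h0 : e ≠ 0) :
    e ∣ Nat.card D := by
  have hd := Char.clifford_degree M ψ.2 η.2 (by rw [he]; exact_mod_cast h0)
  obtain ⟨d, hd1⟩ := exists_nat_degree (irr_isCharacter η)
  obtain ⟨n, hn⟩ := exists_nat_degree (irr_isCharacter ψ)
  rw [he, hd1, hn] at hd
  have hnat : n = e * ((Char.inertia M (η : M → ℂ)).index * d) := by exact_mod_cast hd
  exact (Dvd.intro _ hnat.symm).trans (degree_dvd_card ψ.2 hn)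

end Clif

section Main

theorem exists_above_aux (k : ℕ) : ∀ (G : Type u) [Group G] [Fintype G]
    (A : Subgroup (MulAut G)) (N : Subgroup G) [N.Normal] [Fintype N],
    Group.IsSolvable A → (Nat.card G).Coprime (Nat.card A) → Nat.card A ≤ k →
    ∀ (hN : ∀ a : A, ∀ n ∈ N, A.subtype a n ∈ N) (θ : IrrCharacter N),
      Inv (restrAct A.subtype N hN) (θ : N → ℂ) →
      ∃ χ : IrrCharacter G, Inv A.subtype (χ : G → ℂ) ∧
        classInner (fun n : N => (χ : G → ℂ) n) (θ : N → ℂ) ≠ 0 := by
  induction k with
  | zero =>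
    intro G _ _ A N _ _ _ _ h
    haveI : Finite (MulAut G) := Finite.of_injective (fun e : MulAut G => (e : G → G)) DFunLike.coe_injective
    have := Nat.card_pos (α := A)
    omega
  | succ k ih =>
    intro G _ _ A N _ _ hsol hcop hle hN θ hθ
    haveI : Finite (MulAut G) := Finite.of_injective (fun e : MulAut G => (e : G → G)) DFunLike.coe_injective
    haveI := hsol
    rcases subsingleton_or_nontrivial A with hA | hA
    · obtain ⟨χ, hχ, hne⟩ := Char.exists_over N θ.2
      refine ⟨⟨χ, hχ⟩, fun a g => ?_, hne⟩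
      have h1 : A.subtype a = 1 := by rw [Subsingleton.elim a 1, map_one]
      rw [h1]; rfl
    · obtain ⟨p, T, hp, hTn, hTbot, -, hTp, -⟩ := Cfsg.Agent.Hall.exists_normal_elementary (G := A)
      haveI := hTn
      have hpG : ¬ p ∣ Nat.card G := by
        intro hd
        haveI : Fact p.Prime := ⟨hp⟩
        obtain ⟨k, hk⟩ := IsPGroup.iff_card.mp hTp
        have hk0 : k ≠ 0 := by
          rintro rfl
          rw [pow_zero] at hk
          exact hTbot (Subgroup.card_eq_one.mp hk)
        have h2 : p ∣ Nat.card A :=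
          (dvd_pow_self p hk0).trans (hk ▸ Subgroup.card_subgroup_dvd_card T)
        exact hp.one_lt.ne' (Nat.dvd_one.mp (hcop ▸ Nat.dvd_gcd hd h2))
      have hpN : ¬ p ∣ Nat.card N := fun h => hpG (h.trans (Subgroup.card_subgroup_dvd_card N))
      set r := resAct A.subtype T with hr
      have hcardr : Nat.card r.range * Nat.card r.ker = Nat.card A := by
        rw [← Subgroup.index_ker r, mul_comm]
        exact Subgroup.card_mul_index r.ker
      have hker : 1 < Nat.card r.ker := by
        have h2 : Nat.card T ≤ Nat.card r.ker := Subgroup.card_le_of_le (le_ker_resAct _ _)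
        have h3 : 1 < Nat.card T := by
          rw [Subgroup.one_lt_card_iff_ne_bot]; exact hTbot
        omega
      have hlt : Nat.card r.range < Nat.card A := by
        have hpos : 0 < Nat.card r.range := by
          have := Nat.card_pos (α := A)
          rw [← hcardr] at this
          exact Nat.pos_of_mul_pos_right this
        nlinarith
      -- notation
      let φT : T →* MulAut G := A.subtype.comp T.subtype
      have hφT : φT = A.subtype.comp T.subtype := rfl
      have hNT : ∀ a : T, ∀ n ∈ N, φT a n ∈ N := fun a n hn => hN (a : A) n hn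
      have hfix : IsFix φT (fixSub φT).subtype := isFix_fixSub φT
      have hfixN : IsFix (restrAct φT N hNT) (fixIncl φT N) :=
        isFix_restrAct φT N hNT (fixIncl φT N) (fun _ => rfl)
      haveI : Fintype (fixSub φT) := Fintype.ofFinite _
      haveI : Fintype (N.subgroupOf (fixSub φT)) := Fintype.ofFinite _
      have hθT : Inv (restrAct φT N hNT) (θ : N → ℂ) := fun t x => hθ (t : A) x
      obtain ⟨η, n, hn, hpn, -, hno⟩ := existsUnique_below hfixN hp hTp hpN θ hθT
      -- the restricted action on the fixed points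
      have hN' : ∀ a : r.range, ∀ x ∈ N.subgroupOf (fixSub φT), r.range.subtype a x ∈
          N.subgroupOf (fixSub φT) := by
        rintro ⟨-, a, rfl⟩ x hx
        exact hN a (x : G) hx
      have hη : Inv (restrAct r.range.subtype (N.subgroupOf (fixSub φT)) hN')
          (η : N.subgroupOf (fixSub φT) → ℂ) := by
        intro a
        let γ : IrrCharacter (N.subgroupOf (fixSub φT)) :=
          ⟨(η : N.subgroupOf (fixSub φT) → ℂ) ∘
            (restrAct r.range.subtype (N.subgroupOf (fixSub φT)) hN' a),
          isIrrCharacter_comp_surjective η.2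
            (restrAct r.range.subtype (N.subgroupOf (fixSub φT)) hN' a).toMonoidHom
            (restrAct r.range.subtype (N.subgroupOf (fixSub φT)) hN' a).surjective⟩
        have h1 : classInner (res (fixIncl φT N) (θ : N → ℂ)) (γ : N.subgroupOf (fixSub φT) → ℂ)
            = n := by
          rw [← hn, ← classInner_comp_equiv
            (restrAct r.range.subtype (N.subgroupOf (fixSub φT)) hN' a)
            (res (fixIncl φT N) (θ : N → ℂ)) (η : N.subgroupOf (fixSub φT) → ℂ)]
          congr 1
          funext x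
          obtain ⟨-, a, rfl⟩ := a
          exact (hθ a (fixIncl φT N x)).symm
        have h2 : γ = η := by
          by_contra hne
          exact hpn (hno γ n h1 hne)
        intro x
        exact congrFun (congrArg Subtype.val h2) x
      have hcop' : (Nat.card (fixSub φT)).Coprime (Nat.card r.range) := by
        have h1 : Nat.card r.range ∣ Nat.card A := Dvd.intro _ hcardr
        exact (hcop.coprime_dvd_left (Subgroup.card_subgroup_dvd_card _)).coprime_dvd_right h1
      have hsol' : Group.IsSolvable r.range := by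
        exact Group.isSolvable_of_surjective r.rangeRestrict_surjective
      obtain ⟨ψ, hψ, hψη⟩ := ih (fixSub φT) r.range (N.subgroupOf (fixSub φT)) hsol' hcop'
        (Nat.lt_succ_iff.mp (lt_of_lt_of_le hlt hle)) hN' η hη
      obtain ⟨χ, hχ, m, hm, hpm⟩ := exists_over_fixed hfix hp hTp hpG ψ
      obtain ⟨β, m', hm', -, -, hmo⟩ := existsUnique_below hfix hp hTp hpG χ hχ
      have hβ : β = ψ := by
        by_contra hne
        exact hpm (hmo ψ m hm (Ne.symm hne))
      subst hβ
      have hχA : Inv A.subtype (χ : G → ℂ) := by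
        intro a
        let ξ : IrrCharacter G := ⟨(χ : G → ℂ) ∘ (A.subtype a),
          isIrrCharacter_comp_surjective χ.2 (A.subtype a).toMonoidHom (A.subtype a).surjective⟩
        have hξT : Inv φT (ξ : G → ℂ) := by
          intro t g
          change (χ : G → ℂ) (A.subtype a (A.subtype (t : A) g)) = (χ : G → ℂ) (A.subtype a g)
          have h1 := hχ ⟨a * t * a⁻¹, hTn.conj_mem _ t.2 a⟩ (A.subtype a g)
          change (χ : G → ℂ) (A.subtype (a * t * a⁻¹) (A.subtype a g)) = _ at h1
          rw [← MulAut.mul_apply, ← map_mul, inv_mul_cancel_right, map_mul, MulAut.mul_apply] at h1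
          exact h1
        have h1 : classInner (res (fixSub φT).subtype (ξ : G → ℂ)) (β : fixSub φT → ℂ) = m := by
          rw [← hm, ← classInner_comp_equiv (r a) (res (fixSub φT).subtype (χ : G → ℂ))
            (β : fixSub φT → ℂ)]
          congr 1
          funext d
          change (β : fixSub φT → ℂ) d = (β : fixSub φT → ℂ) (r a d)
          exact (hψ ⟨r a, a, rfl⟩ d).symm
        have h2 : ξ = χ := eq_of_common hfix hp hTp hpG ξ χ hξT hχ β m m h1 hpm hm hpm
        intro g
        exact congrFun (congrArg Subtype.val h2) g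
      refine ⟨χ, hχA, ?_⟩
      obtain ⟨e, he⟩ := classInner_natCast (isCharacter_restrict (irr_isCharacter χ) N)
        (irr_isCharacter θ)
      obtain ⟨e', he'⟩ := classInner_natCast
        (isCharacter_restrict (irr_isCharacter β) (N.subgroupOf (fixSub φT))) (irr_isCharacter η)
      have he'0 : e' ≠ 0 := by
        rintro rfl
        exact hψη (by rw [he']; norm_num)
      have hpe' : ¬ p ∣ e' := fun h => hpG ((h.trans (mult_dvd_card _ β η e' he' he'0)).trans
        (Subgroup.card_subgroup_dvd_card _))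
      have hcong := mult_congr_above φT N hNT hp hTp hpG χ hχ θ hθT β η m n e e' hm
        (fun γ k hk hne => hmo γ k hk hne) hn hno he he'
      rw [he]
      intro h0
      have h0' : e = 0 := by exact_mod_cast h0
      subst h0'
      have h3 : (p : ℤ) ∣ ((m * n * e' : ℕ) : ℤ) := by
        push_cast
        have := hcong
        rw [Nat.cast_zero, zero_sub, dvd_neg] at this
        exact this
      have h4 : p ∣ m * n * e' := by exact_mod_cast h3
      rcases (Nat.Prime.dvd_mul hp).mp h4 with h5 | h5
      · rcases (Nat.Prime.dvd_mul hp).mp h5 with h6 | h6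
        · exact hpm h6
        · exact hpn h6
      · exact hpe' h5

/-- Inside a finite group: an invariant irreducible character above a given one. -/
theorem exists_invariant_above {G : Type u} [Group G] [Fintype G] {A : Type v} [Group A] [Finite A]
    (φ : A →* MulAut G) (hsol : Group.IsSolvable A) (hcop : (Nat.card G).Coprime (Nat.card A))
    (N : Subgroup G) [N.Normal] [Fintype N] (hN : ∀ a, ∀ n ∈ N, φ a n ∈ N) (θ : IrrCharacter N)
    (hθ : Inv (restrAct φ N hN) (θ : N → ℂ)) :
    ∃ χ : IrrCharacter G, Inv φ (χ : G → ℂ) ∧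
      classInner (fun n : N => (χ : G → ℂ) n) (θ : N → ℂ) ≠ 0 := by
  have h1 : Nat.card φ.range ∣ Nat.card A := Subgroup.card_range_dvd φ
  have hN' : ∀ a : φ.range, ∀ n ∈ N, φ.range.subtype a n ∈ N := by
    rintro ⟨-, a, rfl⟩ n hn
    exact hN a n hn
  obtain ⟨χ, hχ, hne⟩ := exists_above_aux (Nat.card φ.range) G φ.range N
    (haveI := hsol; Group.isSolvable_of_surjective φ.rangeRestrict_surjective)
    (hcop.coprime_dvd_right h1) le_rfl hN' θ (by
      rintro ⟨-, a, rfl⟩ x
      exact hθ a x)
  exact ⟨χ, (inv_range_iff φ _).mp hχ, hne⟩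

end Main

end Cfsg.Agent.Glaub
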