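import Cfsg.Agent.Glaub.Count
import Cfsg.Agent.H79.CopChar
import Cfsg.Agent.H74.AbChar
import Cfsg.Agent.Char.ExtCyclic

/-!
# Sums over cosets; factoring an extension out of a homogeneous restriction (owner: helper74)
-/

set_option autoImplicit false
set_option linter.unusedSectionVars false
set_option linter.style.haveILetI false

universe u v w

namespace Cfsg.Agent.Glaub

open scoped ComplexConjugate BigOperators
open Cfsg Cfsg.Agent.CharBase Cfsg.Agent.Char

/-- If `u (n h) u⁻¹ = n' h` with `u ∈ G`, `n, n' ∈ D` forces `u ∈ D`, then sums of class functions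
over `G h` reduce to `D h`. -/
theorem coset_sum {Γ : Type u} [Group Γ] [Finite Γ] (G D : Subgroup Γ) [hGn : G.Normal] [Fintype G]
    [Fintype D] (hDG : D ≤ G) (h : Γ)
    (hfix : ∀ u ∈ G, ∀ n ∈ D, ∀ n' ∈ D, u * (n * h) * u⁻¹ = n' * h → u ∈ D) (F : Γ → ℂ)
    (hF : ∀ x g : Γ, F (g * x * g⁻¹) = F x) :
    (Nat.card D : ℂ) * ∑ g : G, F (g * h) = (Nat.card G : ℂ) * ∑ n : D, F (n * h) := by
  classical
  let Φ : G × D → G := fun q => ⟨q.1 * q.2 * h * (q.1 : Γ)⁻¹ * h⁻¹, by
    have h1 : (q.1 : Γ) * q.2 ∈ G := G.mul_mem q.1.2 (hDG q.2.2)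
    have h2 : h * (q.1 : Γ)⁻¹ * h⁻¹ ∈ G := hGn.conj_mem _ (G.inv_mem q.1.2) h
    have h3 := G.mul_mem h1 h2
    have h4 : (q.1 : Γ) * q.2 * h * (q.1 : Γ)⁻¹ * h⁻¹ = (q.1 : Γ) * q.2 * (h * (q.1 : Γ)⁻¹ * h⁻¹) := by
      group
    rw [h4]; exact h3⟩
  have hΦ : ∀ q : G × D, (Φ q : Γ) * h = q.1 * (q.2 * h) * (q.1 : Γ)⁻¹ := by
    intro q
    show (q.1 : Γ) * q.2 * h * (q.1 : Γ)⁻¹ * h⁻¹ * h = _
    group
  have hfib : ∀ y : G, ((Finset.univ : Finset (G × D)).filter (fun q => Φ q = y)).card ≤
      Fintype.card D := by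
    intro y
    by_cases hne : ((Finset.univ : Finset (G × D)).filter (fun q => Φ q = y)).Nonempty
    · obtain ⟨q0, hq0⟩ := hne
      simp only [Finset.mem_filter, Finset.mem_univ, true_and] at hq0
      have hmem : ∀ q ∈ (Finset.univ : Finset (G × D)).filter (fun q => Φ q = y),
          (q0.1 : Γ)⁻¹ * q.1 ∈ D := by
        intro q hq
        simp only [Finset.mem_filter, Finset.mem_univ, true_and] at hq
        have hmN : (q0.1 : Γ)⁻¹ * q.1 ∈ G := G.mul_mem (G.inv_mem q0.1.2) q.1.2
        have h1 : (q.1 : Γ) * (q.2 * h) * (q.1 : Γ)⁻¹ = q0.1 * (q0.2 * h) * (q0.1 : Γ)⁻¹ := by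
          rw [← hΦ, ← hΦ, hq, hq0]
        refine hfix _ hmN q.2 q.2.2 q0.2 q0.2.2 ?_
        have : ((q0.1 : Γ)⁻¹ * q.1) * (q.2 * h) * ((q0.1 : Γ)⁻¹ * q.1)⁻¹ =
              (q0.1 : Γ)⁻¹ * ((q.1 : Γ) * (q.2 * h) * (q.1 : Γ)⁻¹) * q0.1 := by group
        rw [this, h1]; group
      have := Finset.card_le_card_of_injOn (s := (Finset.univ : Finset (G × D)).filter
        (fun q => Φ q = y)) (t := (Finset.univ : Finset D))
        (fun q => if h : (q0.1 : Γ)⁻¹ * q.1 ∈ D then ⟨(q0.1 : Γ)⁻¹ * q.1, h⟩ else 1)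
        (fun _ _ => Finset.mem_univ _) (by
          intro q hq q' hq' hqq
          have hq1 := hmem q hq
          have hq1' := hmem q' hq'
          simp only [dif_pos hq1, dif_pos hq1', Subtype.mk.injEq, mul_right_inj] at hqq
          have e1 : q.1 = q'.1 := Subtype.ext hqq
          have e2 : (Φ q : Γ) * h = (Φ q' : Γ) * h := by
            have a1 : Φ q = y := by simpa using hq
            have a2 : Φ q' = y := by simpa using hq'
            rw [a1, a2]
          rw [hΦ, hΦ, e1, mul_left_inj, mul_right_inj, mul_left_inj] at e2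
          exact Prod.ext e1 (Subtype.ext e2))
      rwa [Finset.card_univ] at this
    · rw [Finset.not_nonempty_iff_eq_empty] at hne
      rw [hne]; simp
  have htot : ∑ y : G, ((Finset.univ : Finset (G × D)).filter (fun q => Φ q = y)).card =
      Fintype.card G * Fintype.card D := by
    rw [← Fintype.card_prod, ← Finset.card_univ]
    exact (Finset.card_eq_sum_card_fiberwise (fun q _ => Finset.mem_univ (Φ q))).symm
  have hfib' : ∀ y : G, ((Finset.univ : Finset (G × D)).filter (fun q => Φ q = y)).card =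
      Fintype.card D := by
    have h1 : ∑ y : G, ((Finset.univ : Finset (G × D)).filter (fun q => Φ q = y)).card =
        ∑ _y : G, Fintype.card D := by
      rw [htot, Finset.sum_const, Finset.card_univ, smul_eq_mul]
    have h2 := (Finset.sum_eq_sum_iff_of_le (fun y _ => hfib y)).mp h1
    exact fun y => h2 y (Finset.mem_univ y)
  have h1 : ∑ q : G × D, F ((Φ q : Γ) * h) = (Nat.card D : ℂ) * ∑ g : G, F (g * h) := by
    rw [← Finset.sum_fiberwise_of_maps_to (s := (Finset.univ : Finset (G × D)))
      (t := (Finset.univ : Finset G)) (g := Φ) (fun q _ => Finset.mem_univ _), Finset.mul_sum]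
    refine Finset.sum_congr rfl fun y _ => ?_
    rw [Finset.sum_congr rfl (g := fun _ => F (y * h)) (fun q hq => by
      rw [(Finset.mem_filter.mp hq).2]), Finset.sum_const, hfib' y, nsmul_eq_mul,
      Nat.card_eq_fintype_card]
  have h2 : ∑ q : G × D, F ((Φ q : Γ) * h) = (Nat.card G : ℂ) * ∑ n : D, F (n * h) := by
    simp only [hΦ, hF]
    rw [Fintype.sum_prod_type]
    simp only [Finset.sum_const, Finset.card_univ, nsmul_eq_mul, Nat.card_eq_fintype_card]
  rw [← h1, h2]

/-- A character whose restriction to `M` is a multiple of `θ` is a character of `H/M` times an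
extension of `θ`. -/
theorem exists_factor {H : Type u} [Group H] [Fintype H] (M : Subgroup H) [hM : M.Normal]
    [Fintype M] {θh : H → ℂ} (hθh : IsIrrCharacter H θh)
    (hθ : IsIrrCharacter M (fun m : M => θh m)) {X : H → ℂ} (hX : IsCharacter H X) (e : ℂ)
    (hXe : ∀ m : M, X m = e * θh m) :
    ∃ ψ : H ⧸ M → ℂ, IsCharacter (H ⧸ M) ψ ∧ ∀ h : H, X h = ψ (QuotientGroup.mk h) * θh h := by
  classical
  haveI : Fintype (IrrCharacter H) := Fintype.ofFinite _
  obtain ⟨m, hm, hs⟩ := exists_mult_of_isCharacter hX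
  have hinv : ∀ g : H, cj M g (fun m : M => θh m) = fun m : M => θh m := fun g =>
    cj_restrict M g (isClassFunction_of_isCharacter (isCharacter_of_isIrr hθh))
  have hGal := gallagher_bijOn M (fun _ => 1) (fun m : M => θh m) Char.isIrrCharacter_one
    (fun g => rfl) hinv (by
      rw [show ((fun _ => 1) * (fun m : M => θh m)) = (fun m : M => θh m) from one_mul _]
      exact hθ) θh hθh (fun n => rfl)
  have hex : ∀ ξ : IrrCharacter H, ∃ β : H ⧸ M → ℂ, m ξ ≠ 0 →
      IsCharacter (H ⧸ M) β ∧ ∀ h : H, (ξ : H → ℂ) h = β (QuotientGroup.mk h) * θh h := by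
    intro ξ
    by_cases hξ : m ξ = 0
    · exact ⟨0, fun h => absurd hξ h⟩
    have h1 : classInner (fun x : M => (ξ : H → ℂ) x) (fun m : M => θh m) ≠ 0 := by
      -- the restriction of `X` is a multiple of `θ`
      obtain ⟨η, hη, hne⟩ := exists_constituent_restrict M (irr_isCharacter ξ)
        (irr_one_ne_zero ξ.2)
      by_cases hηθ : η = fun m : M => θh m
      · rw [hηθ] at hne; exact hne
      · exfalso
        have h2 : classInner (fun x : M => X x) η = 0 := by
          have : (fun x : M => X x) = e • (fun m : M => θh m) := funext hXe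
          rw [this, classInner_smul_left,
            classInner_irr_of_ne (χ := ⟨_, hθ⟩) (ψ := ⟨η, hη⟩)
              (fun h => hηθ (congrArg Subtype.val h).symm), mul_zero]
        have h3 : classInner (fun x : M => X x) η ≠ 0 := by
          have hnat : ∀ ζ : IrrCharacter H, ∃ n : ℕ,
              classInner (fun x : M => (ζ : H → ℂ) x) η = n := fun ζ =>
            classInner_natCast (isCharacter_restrict (irr_isCharacter ζ) M)
              (isCharacter_of_isIrr hη)
          choose k hk using hnat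
          have h4 : classInner (fun x : M => X x) η =
              ((∑ ζ : IrrCharacter H, m ζ * k ζ : ℕ) : ℂ) := by
            have e1 : (fun x : M => X x) = ∑ ζ : IrrCharacter H, (m ζ : ℂ) •
                (fun x : M => (ζ : H → ℂ) x) := by
              funext x
              have := congrFun hs (x : H)
              rw [this]
              simp [Finset.sum_apply]
            rw [e1, classInner_sum_left]
            push_cast
            refine Finset.sum_congr rfl fun ζ _ => ?_
            rw [classInner_smul_left, hk]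
          rw [h4]
          have h5 : k ξ ≠ 0 := fun h => hne (by
            have := hk ξ
            rw [h, Nat.cast_zero] at this
            exact this)
          have h6 : m ξ * k ξ ≤ ∑ ζ : IrrCharacter H, m ζ * k ζ :=
            Finset.single_le_sum (f := fun ζ => m ζ * k ζ) (fun _ _ => Nat.zero_le _)
              (Finset.mem_univ ξ)
          have h7 : 0 < m ξ * k ξ := Nat.mul_pos (Nat.pos_of_ne_zero hξ) (Nat.pos_of_ne_zero h5)
          exact Nat.cast_ne_zero.mpr (by omega)
        exact h3 h2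
    have hmem : (ξ : H → ℂ) ∈ {ψ : H → ℂ | IsIrrCharacter H ψ ∧
        classInner (indFun M ((fun _ => 1) * (fun m : M => θh m))) ψ ≠ 0} := by
      refine ⟨ξ.2, ?_⟩
      rw [show ((fun _ => 1) * (fun m : M => θh m)) = (fun m : M => θh m) from one_mul _,
        frobenius_reciprocity M _ _ (irr_isClassFunction ξ),
        CharBase.classInner_comm_of_isCharacter (isCharacter_of_isIrr hθ)
          (isCharacter_restrict (irr_isCharacter ξ) M)]
      exact h1
    obtain ⟨β, ⟨hβ1, hβ2⟩, hβ3⟩ := hGal.surjOn hmem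
    have hβ4 : classInner (fun n : M => β n) (fun _ => 1) ≠ 0 := by
      rw [frobenius_reciprocity M _ _ (isClassFunction_of_isCharacter (isCharacter_of_isIrr hβ1)),
        CharBase.classInner_comm_of_isCharacter (isCharacter_of_isIrr Char.isIrrCharacter_one)
          (isCharacter_restrict (isCharacter_of_isIrr hβ1) M)] at hβ2
      exact hβ2
    have hβ5 : ∀ n ∈ M, β n = β 1 := fun n hn => by
      have := irr_const_of_classInner_ne_zero M hβ1 hβ4 ⟨n, hn⟩ 1
      rw [mul_one] at this
      exact this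
    obtain ⟨β', hβ', hβ'2⟩ := H75.exists_deflate_irr M hβ1 hβ5
    refine ⟨β', fun _ => ⟨isCharacter_of_isIrr hβ', fun h => ?_⟩⟩
    have h8 : (β * θh) h = (ξ : H → ℂ) h := congrFun hβ3 h
    rw [← h8, hβ'2]; rfl
  choose β hβ using hex
  refine ⟨∑ ξ : IrrCharacter H, (if m ξ = 0 then 0 else m ξ • β ξ), ?_, fun h => ?_⟩
  · refine isCharacter_sum _ _ fun ξ _ => ?_
    split_ifs with h0
    · exact isCharacter_zero
    · exact isCharacter_nsmul (hβ ξ h0).1 _
  · have h1 := congrFun hs h
    rw [h1, Finset.sum_apply, Finset.sum_apply, Finset.sum_mul]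
    refine Finset.sum_congr rfl fun ξ _ => ?_
    split_ifs with h0
    · rw [h0]; simp
    · rw [Pi.smul_apply, Pi.smul_apply, (hβ ξ h0).2 h, nsmul_eq_mul, nsmul_eq_mul]
      ring

end Cfsg.Agent.Glaub
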